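import Cfsg.Agent.Lib.Bender.Full.Fpf
import Cfsg.Agent.Lib.Bender.Full.Hole.Torus
import Cfsg.Agent.Lib.Bender.OddQuot.Field
import Mathlib.FieldTheory.Galois.Basic

/-!
# The commuting case: the torus

With commuting involutions in `H` and the two-point stabilizer `D` faithful on them, `D` is odd,
transitive and hence semilinear on the group they generate; a lonely element generates the field
automorphisms, so `D` is the semidirect product of a regular abelian subgroup and a group of prime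
order, inverted and centralized by the swappers.
-/

set_option autoImplicit false
set_option linter.style.haveILetI false
set_option linter.unusedSectionVars false

namespace CfsgLib.Bender.Full

open Subgroup MulAction
open CfsgLib.Invol (invol_conj invol_inv invol_mul_self invol_ne_one invol_smul_smul)
open CfsgLib.Bender.OddQuot (Semilin exists_semilin)

universe u

variable {G : Type u} [Group G] [Finite G] {H : Subgroup G}

/-- In a subgroup of odd order an element is inverted only if it is trivial. -/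
theorem eq_one_of_conj_eq_inv {D : Subgroup G} (hD : Odd (Nat.card D)) {d a : G} (hd : d ∈ D)
    (ha : a ∈ D) (h : d * a * d⁻¹ = a⁻¹) : a = 1 := by
  have h2 : Commute (d ^ 2) a := by
    refine mul_inv_eq_iff_eq_mul.1 ?_
    calc d ^ 2 * a * (d ^ 2)⁻¹ = d * (d * a * d⁻¹) * d⁻¹ := by rw [pow_two]; group
      _ = (d * a * d⁻¹)⁻¹ := by nth_rw 1 [h]; group
      _ = a := by rw [h, inv_inv]
  obtain ⟨j, hj⟩ := hD.of_dvd_nat (Subgroup.orderOf_dvd_natCard _ hd)
  have h3 : (d ^ 2) ^ (j + 1) = d := by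
    rw [← pow_mul, show 2 * (j + 1) = orderOf d + 1 by omega, pow_succ, pow_orderOf_eq_one, one_mul]
  have h4 : Commute d a := h3 ▸ h2.pow_left _
  rw [h4.eq, mul_inv_cancel_right] at h
  have h5 : a ^ 2 = 1 := by rw [pow_two]; exact mul_eq_one_iff_eq_inv.2 h
  exact CfsgLib.Invol.eq_one_of_odd_of_pow_two (k := 1)
    (hD.of_dvd_nat (Subgroup.orderOf_dvd_natCard _ ha)) (by simpa using h5)

theorem involGen_spec (hcomm : ∀ u ∈ H, ∀ v ∈ H, orderOf u = 2 → orderOf v = 2 → Commute u v)
    {g : G} (hg : g ∈ involGen H) :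
    g * g = 1 ∧ ∀ u ∈ H, orderOf u = 2 → Commute g u := by
  induction hg using closure_induction with
  | mem g hg => exact ⟨invol_mul_self hg.1, fun u hu huo => hcomm g hg.2 u hu hg.1 huo⟩
  | one => exact ⟨mul_one _, fun u _ _ => Commute.one_left u⟩
  | mul g k hg hk ihg ihk =>
    have hgk : Commute g k := by
      have : k ∈ centralizer ({g} : Set G) := (closure_le (K := centralizer ({g} : Set G))).2
        (fun u hu => mem_centralizer_singleton_iff.2 (ihg.2 u hu.2 hu.1).eq.symm) hk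
      exact (mem_centralizer_singleton_iff.1 this).symm
    refine ⟨?_, fun u hu huo => (ihg.2 u hu huo).mul_left (ihk.2 u hu huo)⟩
    rw [show g * k * (g * k) = g * (k * g) * k by group, ← hgk.eq,
      show g * (g * k) * k = g * g * (k * k) by group, ihg.1, ihk.1, one_mul]
  | inv g hg ih =>
    have e : g⁻¹ = g := inv_eq_of_mul_eq_one_right ih.1
    rw [e]
    exact ih

theorem Setting.exists_torus (h : Setting H) {x : G ⧸ H} (hx : x ≠ base H)
    (hcomm : ∀ u ∈ H, ∀ v ∈ H, orderOf u = 2 → orderOf v = 2 → Commute u v)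
    {s : ℕ} [hs : Fact s.Prime] (hsm : ¬ s ∣ numInv H) {z : G} (hz : z ∈ pairStab (base H) x)
    (hzo : orderOf z = s) (hlon : ¬ Nonlonely (zpowers z))
    (hfaith : ∀ g ∈ pairStab (base H) x, (∀ u ∈ H, orderOf u = 2 → Commute g u) → g = 1) :
    ∃ S R : Subgroup G, Hole.Torus H S R x s := by
  classical
  set D := pairStab (base H) x with hDdef
  have hDodd : Odd (Nat.card D) := odd_pairStab h.se hx.symm
  have hDH : D ≤ H := pairStab_base_le H x
  -- the involution commuting with `z`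
  have hzA : IsPGroup s (zpowers z) :=
    IsPGroup.of_card (n := 1) (by rw [Nat.card_zpowers, hzo, pow_one])
  obtain ⟨t, ht, htb, htC⟩ := h.exists_invol_centralizing hzA
    ((zpowers_le.2 hz).trans inf_le_left : base H ∈ fixSet (zpowers z) H)
    (h.three_of_not_dvd hsm hx.symm hzA (zpowers_le.2 hz))
  have htH : t ∈ H := smul_base.1 htb
  have hzt : Commute z t := mem_centralizer_iff.1 htC z (mem_zpowers z)
  have huniq : ∀ u ∈ H, orderOf u = 2 → Commute u z → u = t := by
    intro u hu huo huz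
    by_contra hne
    refine hlon (nonlonely_iff.2 ⟨u, t, huo, ht, hne, hcomm u hu t htH huo ht, ?_, htC⟩)
    refine mem_centralizer_iff.2 fun g hg => ?_
    obtain ⟨i, rfl⟩ := hg
    exact (huz.zpow_right i).eq.symm
  -- the elementary group
  set E := involGen H with hE
  haveI : IsMulCommutative E := ⟨⟨fun a b => Subtype.ext (by
    have : (b : G) ∈ centralizer ({(a : G)} : Set G) :=
      (closure_le (K := centralizer ({(a : G)} : Set G))).2
        (fun u hu => mem_centralizer_singleton_iff.2 ((involGen_spec hcomm a.2).2 u hu.2 hu.1).eq.symm)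
        b.2
    exact (mem_centralizer_singleton_iff.1 this).symm)⟩⟩
  have hexp : ∀ v : E, v * v = 1 := fun v => Subtype.ext (involGen_spec hcomm v.2).1
  have hEinv : ∀ g ∈ E, g ≠ 1 → orderOf g = 2 ∧ g ∈ H := fun g hg hg1 =>
    ⟨CfsgLib.Invol.invol_iff.2 ⟨(involGen_spec hcomm hg).1, hg1⟩, involGen_le H hg⟩
  have hDn : D ≤ normalizer (E : Set G) := hDH.trans (le_normalizer_involGen H)
  set act : D →* MulAut E := E.normalizerMonoidHom.comp (Subgroup.inclusion hDn) with hact
  have hactv : ∀ (g : D) (v : E), ((act g v : E) : G) = (g : G) * v * (g : G)⁻¹ := fun g v => rfl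
  have hfix : ∀ (g : D) (v : E), act g v = v ↔ Commute (g : G) v := fun g v => by
    rw [← Subtype.coe_inj, hactv, mul_inv_eq_iff_eq_mul]
    exact Iff.rfl
  set t' : E := ⟨t, subset_closure ⟨ht, htH⟩⟩ with ht'
  have ht1 : t' ≠ 1 := fun e => invol_ne_one ht (congrArg Subtype.val e)
  obtain ⟨w, hw, hwx⟩ := exists_swapper h.se hx.symm
  have htrans : ∀ v : E, v ≠ 1 → ∃ g : D, act g t' = v := by
    intro v hv
    obtain ⟨hvo, hvH⟩ := hEinv v v.2 fun e => hv (Subtype.ext e)
    obtain ⟨d, -, hdb, hdx, hd⟩ := transitive_fixing h.se ⊤ (a := base H) (u := w) (mem_top _)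
      (by rw [hwx]; exact hx) ht (mem_top _) htb hvo (mem_top _) (smul_base.2 hvH)
    rw [hwx] at hdx
    exact ⟨⟨d, mem_stabilizer_iff.2 hdb, mem_stabilizer_iff.2 hdx⟩, Subtype.ext hd⟩
  letI : CommGroup E := { (E.toGroup : Group E) with
    mul_comm := fun x y => mul_comm' x y }
  obtain ⟨L⟩ := exists_semilin (M := D) (E := E) hDodd hexp act ht1 htrans
  have hfaith' : ∀ g : D, act g = 1 → g = 1 := fun g hg => Subtype.ext (hfaith g g.2
    fun u hu huo => (hfix g ⟨u, subset_closure ⟨huo, hu⟩⟩).1 (by rw [hg]; rfl))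
  -- `z` generates the field automorphisms
  set z' : D := ⟨z, hz⟩ with hz'
  haveI : IsGalois (ZMod 2) L.F := inferInstance
  have hff : IntermediateField.fixedField (zpowers (L.gal z')) = ⊥ := by
    refine le_bot_iff.1 fun a ha => ?_
    obtain ⟨v, rfl⟩ := L.e.surjective a
    have h1 : Commute z (v.toMul : E) := (hfix z' _).1
      ((L.fixes_iff ((hfix z' t').2 hzt) v.toMul).2 (ha ⟨L.gal z', mem_zpowers _⟩))
    rcases eq_or_ne (v.toMul : E) 1 with e | e
    · rw [show L.e v = 0 from L.e_eq_zero.2 e]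
      exact zero_mem _
    · obtain ⟨hvo, hvH⟩ := hEinv _ (v.toMul).2 fun e' => e (Subtype.ext e')
      have hvt : (v.toMul : E) = t' := Subtype.ext (huniq _ hvH hvo h1.symm)
      rw [show L.e v = 1 from (congrArg (fun w : E => L.e (Additive.ofMul w)) hvt).trans L.et]
      exact one_mem _
  have hgen : zpowers (L.gal z') = ⊤ := by
    rw [← IntermediateField.fixingSubgroup_fixedField (zpowers (L.gal z')), hff]
    exact IntermediateField.fixingSubgroup_bot
  have hord : orderOf (L.gal z') = s := by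
    refine ((Nat.dvd_prime hs.out).1 ((orderOf_map_dvd L.gal z').trans
      (by rw [hz', orderOf_mk, hzo]))).resolve_left fun e => ?_
    rw [orderOf_eq_one_iff] at e
    have hall : ∀ v : E, Commute z v := fun v => (hfix z' v).1
      ((L.fixes_iff ((hfix z' t').2 hzt) v).2 (by rw [e]; rfl))
    obtain ⟨⟨u, huo, hu⟩, ⟨v, hvo, hv⟩, hne⟩ :=
      (Finite.one_lt_card_iff_nontrivial.1 h.one_lt_numInv).exists_pair_ne
    exact hne (Subtype.ext ((huniq u hu huo (hall ⟨u, subset_closure ⟨huo, hu⟩⟩).symm).trans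
      (huniq v hv hvo (hall ⟨v, subset_closure ⟨hvo, hv⟩⟩).symm).symm))
  have hGcard : Nat.card (L.F ≃ₐ[ZMod 2] L.F) = s := by
    rw [← Subgroup.card_top, ← hgen, Nat.card_zpowers, hord]
  -- the torus
  set K := L.gal.ker with hK
  set S := K.map D.subtype with hS
  have hSD : S ≤ D := map_subtype_le _
  have hmult : ∀ g : D, L.gal g = 1 → ∀ v : E,
      L.e (Additive.ofMul (act g v)) = L.mult g * L.e (Additive.ofMul v) := fun g hg v => by
    rw [L.apply, hg, AlgEquiv.one_apply]
  have hKcomm : ∀ a b : D, a ∈ K → b ∈ K → Commute a b := by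
    intro a b ha hb
    have h1 : act (a * b) = act (b * a) := by
      refine MulEquiv.ext fun v => congrArg Additive.toMul (L.e.injective
        (a₁ := Additive.ofMul (act (a * b) v)) (a₂ := Additive.ofMul (act (b * a) v)) ?_)
      rw [map_mul, map_mul, MulAut.mul_apply, MulAut.mul_apply, hmult a ha, hmult b hb, hmult b hb,
        hmult a ha, mul_left_comm]
    have h2 := hfaith' ((b * a)⁻¹ * (a * b)) (by rw [map_mul, map_inv, h1, inv_mul_cancel])
    exact (inv_mul_eq_one.1 h2).symm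
  have hScomm : ∀ a ∈ S, ∀ b ∈ S, Commute a b := by
    rintro _ ⟨a, ha, rfl⟩ _ ⟨b, hb, rfl⟩
    exact (hKcomm a b ha hb).map D.subtype
  have hStrans : ∀ u ∈ H, orderOf u = 2 → ∃ a ∈ S, a * t * a⁻¹ = u := by
    intro u hu huo
    obtain ⟨g, hg⟩ := htrans ⟨u, subset_closure ⟨huo, hu⟩⟩
      fun e => invol_ne_one huo (congrArg Subtype.val e)
    obtain ⟨i, hi⟩ := mem_zpowers_iff.1 (hgen ▸ mem_top (L.gal g) : L.gal g ∈ zpowers (L.gal z'))
    refine ⟨_, ⟨g * (z' ^ i)⁻¹, ?_, rfl⟩, ?_⟩
    · show L.gal (g * (z' ^ i)⁻¹) = 1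
      rw [map_mul, map_inv, map_zpow, hi, mul_inv_cancel]
    · have hgu : (g : G) * t * (g : G)⁻¹ = u := congrArg Subtype.val hg
      have hzi : Commute (z ^ i) t := hzt.zpow_left i
      calc D.subtype (g * (z' ^ i)⁻¹) * t * (D.subtype (g * (z' ^ i)⁻¹))⁻¹
          = (g : G) * ((z ^ i)⁻¹ * (t * z ^ i)) * (g : G)⁻¹ := by simp [hz', mul_assoc]
        _ = u := by rw [← hzi.eq, inv_mul_cancel_left, hgu]
  have hSfree : ∀ a ∈ S, Commute a t → a = 1 := by
    rintro _ ⟨g, hg, rfl⟩ hgt
    rw [hfaith' g (L.act_eq_one ((hfix g t').2 hgt) hg), map_one]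
  have hregS : ∀ u ∈ H, ∀ v ∈ H, orderOf u = 2 → orderOf v = 2 →
      ∃! a, a ∈ S ∧ a * u * a⁻¹ = v := by
    intro u hu v hv huo hvo
    obtain ⟨a, ha, rfl⟩ := hStrans u hu huo
    obtain ⟨b, hb, rfl⟩ := hStrans v hv hvo
    refine ⟨b * a⁻¹, ⟨S.mul_mem hb (S.inv_mem ha), by group⟩, fun c ⟨hc, hcu⟩ => ?_⟩
    have h1 := hSfree (b⁻¹ * (c * a)) (S.mul_mem (S.inv_mem hb) (S.mul_mem hc ha)) (by
      refine mul_inv_eq_iff_eq_mul.1 ?_
      calc b⁻¹ * (c * a) * t * (b⁻¹ * (c * a))⁻¹ = b⁻¹ * (c * (a * t * a⁻¹) * c⁻¹) * b := by group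
        _ = t := by rw [hcu]; group)
    exact eq_mul_inv_iff_mul_eq.2 (inv_mul_eq_one.1 h1).symm
  have hnum : numInv H = Nat.card S := by
    refine (Nat.card_congr (Equiv.ofBijective (fun a : S => (⟨(a : G) * t * (a : G)⁻¹,
      invol_conj ht _, H.mul_mem (H.mul_mem (hDH (hSD a.2)) htH) (H.inv_mem (hDH (hSD a.2)))⟩ :
        {u : G // orderOf u = 2 ∧ u ∈ H})) ⟨?_, ?_⟩)).symm
    · intro a b hab
      have hab' : (a : G) * t * (a : G)⁻¹ = b * t * (b : G)⁻¹ := congrArg Subtype.val hab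
      have h1 := hSfree ((b : G)⁻¹ * a) (S.mul_mem (S.inv_mem b.2) a.2) (by
        refine mul_inv_eq_iff_eq_mul.1 ?_
        calc (b : G)⁻¹ * a * t * ((b : G)⁻¹ * a)⁻¹ = (b : G)⁻¹ * (a * t * (a : G)⁻¹) * b := by group
          _ = t := by rw [hab']; group)
      exact Subtype.ext (inv_mul_eq_one.1 h1).symm
    · rintro ⟨u, huo, hu⟩
      obtain ⟨a, ha, e⟩ := hStrans u hu huo
      exact ⟨⟨a, ha⟩, Subtype.ext e⟩
  have hcardS : Nat.card S = 2 ^ s - 1 := by
    have hr : Module.finrank (ZMod 2) L.F = s := by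
      rw [← IsGalois.card_aut_eq_finrank, hGcard]
    rw [← hnum, ← hr, ← L.card_eq]
    have e : {u : G // orderOf u = 2 ∧ u ∈ H} ≃ {v : E // v ≠ 1} :=
      { toFun := fun u => ⟨⟨u, subset_closure u.2⟩, fun e =>
          invol_ne_one u.2.1 (congrArg Subtype.val e)⟩
        invFun := fun v => ⟨v.1, hEinv _ v.1.2 fun e => v.2 (Subtype.ext e)⟩
        left_inv := fun u => rfl
        right_inv := fun v => rfl }
    haveI : Fintype E := Fintype.ofFinite _
    rw [numInv, Nat.card_congr e, Nat.card_eq_fintype_card, Fintype.card_subtype_compl,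
      Fintype.card_subtype_eq, ← Nat.card_eq_fintype_card]
  -- `S` is the Hall subgroup of `D` of order prime to `s`
  have hScop : ∀ a ∈ S, (orderOf a).Coprime s := fun a ha =>
    Nat.Coprime.coprime_dvd_left (Subgroup.orderOf_dvd_natCard _ ha)
      (hnum ▸ Nat.coprime_comm.1 (hs.out.coprime_iff_not_dvd.2 hsm))
  have hShall : ∀ g ∈ D, (orderOf g).Coprime s → g ∈ S := by
    intro g hg hgs
    refine ⟨⟨g, hg⟩, ?_, rfl⟩
    refine orderOf_eq_one_iff.1 (Nat.eq_one_of_dvd_coprimes hgs ?_ ?_)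
    · exact (orderOf_map_dvd L.gal _).trans (by rw [orderOf_mk])
    · exact hGcard ▸ orderOf_dvd_natCard _
  have hinv : ∀ v : G, orderOf v = 2 → v • base H = x → ∀ a ∈ S, v * a * v⁻¹ = a⁻¹ := by
    intro v hv hvx a ha
    have hvS : ∀ b ∈ S, v * b * v⁻¹ ∈ S := fun b hb => hShall _
      ((mem_normalizer_iff.1 (mem_normalizer_pairStab hv hvx) b).1 (hSD hb))
      (by rw [show v * b * v⁻¹ = MulAut.conj v b from rfl, MulEquiv.orderOf_eq]; exact hScop b hb)
    have hCfree : ∀ b ∈ S, Commute v b → b = 1 := by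
      intro b hb hvb
      have h1 := relIndex_mul_card_inf (centralizer ({v} : Set G)) D
      rw [hDdef, relIndex_swap h.se hx.symm hv hvx] at h1
      have h2 : Nat.card D = numInv H * s := by
        rw [← card_mul_index K, show Nat.card K = Nat.card S from
          (card_map_of_injective D.subtype_injective).symm, hnum, hK, index_ker, ← hGcard,
          MonoidHom.range_eq_top.2 fun σ => ?_, Subgroup.card_top]
        obtain ⟨i, hi⟩ := mem_zpowers_iff.1 (hgen ▸ mem_top σ : σ ∈ zpowers (L.gal z'))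
        exact ⟨z' ^ i, by rw [map_zpow, hi]⟩
      rw [← hDdef, h2] at h1
      have h3 : Nat.card (centralizer ({v} : Set G) ⊓ D : Subgroup G) = s :=
        Nat.eq_of_mul_eq_mul_left (by rw [hnum]; exact Nat.card_pos) h1
      exact orderOf_eq_one_iff.1 (Nat.eq_one_of_dvd_coprimes (hScop b hb) dvd_rfl
        (h3 ▸ Subgroup.orderOf_dvd_natCard _
          ⟨mem_centralizer_singleton_iff.2 hvb.eq.symm, hSD hb⟩))
    have h1 := hCfree (a * (v * a * v⁻¹)) (S.mul_mem ha (hvS a ha)) (by
      show v * (a * (v * a * v⁻¹)) = a * (v * a * v⁻¹) * v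
      calc v * (a * (v * a * v⁻¹)) = (v * a * v⁻¹) * ((v * v) * a * v⁻¹) := by group
        _ = (v * a * v⁻¹) * a * v⁻¹ := by rw [invol_mul_self hv, one_mul]; group
        _ = a * (v * a * v⁻¹) * v⁻¹ := by rw [(hScomm _ (hvS a ha) a ha).eq]
        _ = _ := by rw [invol_inv hv])
    exact eq_inv_of_mul_eq_one_right h1
  have hfixS : ∀ a ∈ S, a ≠ 1 → ∀ y : G ⧸ H, a • y = y → y = base H ∨ y = x :=
    fun a ha ha1 y hy => h.fix_of_inverted hx.symm hw hwx (hSD ha) ha1 (hinv w hw hwx a ha) hy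
  refine ⟨S, zpowers z, h.se, hcomm, hx, hs.out, ?_, ?_, ?_, hcardS, hnum, hregS,
    by rw [Nat.card_zpowers, hzo], ?_, ?_, hfixS, ?_, hinv⟩
  · rintro rfl
    exact Nat.not_even_iff_odd.2 (hDodd.of_dvd_nat (hzo ▸ Subgroup.orderOf_dvd_natCard _ hz))
      even_two
  · intro y y' hy hy'
    obtain ⟨g, hgb, hgy⟩ := h.toMCtx.exists_pair_map (Ne.symm hy) (Ne.symm hy')
    exact ⟨g, smul_base.1 hgb, hgy⟩
  · refine le_antisymm (fun g hg => ?_) (sup_le hSD (zpowers_le.2 hz))
    obtain ⟨i, hi⟩ := mem_zpowers_iff.1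
      (hgen ▸ mem_top (L.gal ⟨g, hg⟩) : L.gal ⟨g, hg⟩ ∈ zpowers (L.gal z'))
    have h1 : g * (z ^ i)⁻¹ ∈ S := ⟨⟨g, hg⟩ * (z' ^ i)⁻¹, by
      show L.gal (⟨g, hg⟩ * (z' ^ i)⁻¹) = 1
      rw [map_mul, map_inv, map_zpow, hi, mul_inv_cancel], by simp [hz']⟩
    rw [show g = g * (z ^ i)⁻¹ * z ^ i by group]
    exact mul_mem (mem_sup_left h1) (mem_sup_right (zpow_mem (mem_zpowers z) i))
  · refine zpowers_le.2 (mem_normalizer_iff.2 fun b => ?_)
    have key : ∀ e ∈ D, ∀ c ∈ S, e * c * e⁻¹ ∈ S := fun e he c hc => hShall _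
      (D.mul_mem (D.mul_mem he (hSD hc)) (D.inv_mem he))
      (by rw [show e * c * e⁻¹ = MulAut.conj e c from rfl, MulEquiv.orderOf_eq]; exact hScop c hc)
    exact ⟨key z hz b, fun hb => by simpa [mul_assoc] using key _ (D.inv_mem hz) _ hb⟩
  · refine ⟨t, htH, ht, fun r hr => ?_⟩
    obtain ⟨i, rfl⟩ := hr
    refine ⟨hzt.zpow_left i, fun hr1 u hu huo hru => huniq u hu huo ?_⟩
    have hzr : z ∈ zpowers (z ^ i) := by
      have e : orderOf (z ^ i) = s := ((Nat.dvd_prime hs.out).1 (by
        rw [← hzo, ← Nat.card_zpowers, ← Nat.card_zpowers]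
        exact card_dvd_of_le (zpowers_le.2 (zpow_mem (mem_zpowers z) i)))).resolve_left
        (by rwa [orderOf_eq_one_iff])
      rw [Subgroup.eq_of_le_of_card_ge (zpowers_le.2 (zpow_mem (mem_zpowers z) i))
        (by rw [Nat.card_zpowers, Nat.card_zpowers, e, hzo])]
      exact mem_zpowers z
    obtain ⟨j, hj⟩ := hzr
    rw [← hj]
    exact (hru.zpow_left j).symm
  · intro a ha ha1
    have haD : a ∈ D := hSD ha
    refine le_antisymm (fun g hg => ?_)
      (fun b hb => mem_centralizer_singleton_iff.2 (hScomm b hb a ha).eq)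
    have hga : Commute g a := mem_centralizer_singleton_iff.1 hg
    have hfg : ∀ y : G ⧸ H, a • y = y → a • g • y = g • y := fun y hy => by
      rw [smul_smul, ← hga.eq, mul_smul, hy]
    have hD' : ∀ g' ∈ D, Commute g' a → g' ∈ S := by
      intro g' hg' hga'
      obtain ⟨i, hi⟩ := mem_zpowers_iff.1
        (hgen ▸ mem_top (L.gal ⟨g', hg'⟩) : L.gal ⟨g', hg'⟩ ∈ zpowers (L.gal z'))
      set σ := g' * (z ^ i)⁻¹ with hσ
      have hσS : σ ∈ S := ⟨⟨g', hg'⟩ * (z' ^ i)⁻¹, by
        show L.gal (⟨g', hg'⟩ * (z' ^ i)⁻¹) = 1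
        rw [map_mul, map_inv, map_zpow, hi, mul_inv_cancel], by simp [hσ, hz']⟩
      have hzia : Commute (z ^ i) a := by
        rw [show z ^ i = σ⁻¹ * g' by rw [hσ]; group]
        exact ((hScomm σ hσS a ha).inv_left).mul_left hga'
      by_cases hzi : z ^ i = 1
      · rwa [hσ, hzi, inv_one, mul_one] at hσS
      · exfalso
        refine ha1 (hSfree a ha ?_)
        have hza : Commute z a := by
          have e : orderOf (z ^ i) = s := ((Nat.dvd_prime hs.out).1 (by
            rw [← hzo, ← Nat.card_zpowers, ← Nat.card_zpowers]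
            exact card_dvd_of_le (zpowers_le.2 (zpow_mem (mem_zpowers z) i)))).resolve_left
            (by rwa [orderOf_eq_one_iff])
          have hzr : z ∈ zpowers (z ^ i) := by
            rw [Subgroup.eq_of_le_of_card_ge (zpowers_le.2 (zpow_mem (mem_zpowers z) i))
              (by rw [Nat.card_zpowers, Nat.card_zpowers, e, hzo])]
            exact mem_zpowers z
          obtain ⟨j, hj⟩ := hzr
          rw [← hj]
          exact hzia.zpow_left j
        have h1 : a * t * a⁻¹ = t := by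
          refine huniq _ (H.mul_mem (H.mul_mem (hDH haD) htH) (H.inv_mem (hDH haD)))
            (invol_conj ht a) ?_
          calc a * t * a⁻¹ * z = a * t * (z * a⁻¹) := by rw [mul_assoc, ← hza.inv_right.eq]
            _ = a * (t * z) * a⁻¹ := by group
            _ = a * (z * t) * a⁻¹ := by rw [hzt.eq]
            _ = z * (a * t * a⁻¹) := by rw [← mul_assoc a z, ← hza.eq]; group
        exact mul_inv_eq_iff_eq_mul.1 h1
    have hab : a • base H = base H := mem_stabilizer_iff.1 haD.1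
    have hax : a • x = x := mem_stabilizer_iff.1 haD.2
    rcases hfixS a ha ha1 (g • base H) (hfg _ hab) with e1 | e1
    · rcases hfixS a ha ha1 (g • x) (hfg _ hax) with e2 | e2
      · exact absurd (smul_left_cancel g (e2.trans e1.symm)) hx
      · exact hD' g ⟨mem_stabilizer_iff.2 e1, mem_stabilizer_iff.2 e2⟩ hga
    · exfalso
      have e2 : g • x = base H := (hfixS a ha ha1 (g • x) (hfg _ hax)).resolve_right
        fun e2 => hx (smul_left_cancel g (e2.trans e1.symm))
      have hdD : w * g ∈ D := by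
        refine ⟨mem_stabilizer_iff.2 ?_, mem_stabilizer_iff.2 ?_⟩
        · rw [mul_smul, e1, ← hwx, invol_smul_smul hw]
        · rw [mul_smul, e2, hwx]
      refine ha1 (eq_one_of_conj_eq_inv hDodd hdD haD ?_)
      calc w * g * a * (w * g)⁻¹ = w * (g * a * g⁻¹) * w⁻¹ := by group
        _ = a⁻¹ := by rw [hga.eq, mul_inv_cancel_right, hinv w hw hwx a ha]

end CfsgLib.Bender.Full
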